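import Mathlib.CategoryTheory.Monoidal.Braided.Basic
import Mathlib.CategoryTheory.Monoidal.NaturalTransformation
import Mathlib.CategoryTheory.Groupoid
import Mathlib.Tactic.CategoryTheory.Monoidal.Basic

/-! The free commutative Picard category on a symmetric monoidal groupoid. -/

universe v v' u u'

namespace Groth.Agent.PicardLib

open CategoryTheory MonoidalCategory

/-- tensoring with an invertible object is an equivalence -/
lemma tensor_isEquivalence {C : Type u} [Category.{v} C] [MonoidalCategory C] [SymmetricCategory C]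
    (X Y : C) (e : X ⊗ Y ≅ 𝟙_ C) :
    (tensorLeft X).IsEquivalence ∧ (tensorRight X).IsEquivalence := by
  have e' : Y ⊗ X ≅ 𝟙_ C := β_ Y X ≪≫ e
  let η : 𝟭 C ≅ tensorLeft X ⋙ tensorLeft Y :=
    (leftUnitorNatIso C).symm ≪≫ (curriedTensor C).mapIso e'.symm ≪≫ tensorLeftTensor Y X
  let ε : tensorLeft Y ⋙ tensorLeft X ≅ 𝟭 C :=
    (tensorLeftTensor X Y).symm ≪≫ (curriedTensor C).mapIso e ≪≫ leftUnitorNatIso C
  have h : (tensorLeft X).IsEquivalence :=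
    (CategoryTheory.Equivalence.mk (tensorLeft X) (tensorLeft Y) η ε).isEquivalence_functor
  refine ⟨h, ?_⟩
  exact Functor.isEquivalence_of_iso (NatIso.ofComponents (fun Z => β_ X Z) :
    tensorLeft X ≅ tensorRight X)

variable (A : Type u) [Category.{v} A] [MonoidalCategory A] [SymmetricCategory A] [IsGroupoid A]

/-- formal objects -/
inductive Obj : Type u
  | of : A → Obj
  | one : Obj
  | tens : Obj → Obj → Obj
  | neg : Obj → Obj

variable {A}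

/-- formal morphisms -/
inductive Hom : Obj A → Obj A → Type (max u v)
  | id (X : Obj A) : Hom X X
  | comp {X Y Z : Obj A} (f : Hom X Y) (g : Hom Y Z) : Hom X Z
  | inv {X Y : Obj A} (f : Hom X Y) : Hom Y X
  | tens {X₁ X₂ Y₁ Y₂ : Obj A} (f : Hom X₁ Y₁) (g : Hom X₂ Y₂) : Hom (.tens X₁ X₂) (.tens Y₁ Y₂)
  | assoc (X Y Z : Obj A) : Hom (.tens (.tens X Y) Z) (.tens X (.tens Y Z))
  | lunit (X : Obj A) : Hom (.tens .one X) X
  | runit (X : Obj A) : Hom (.tens X .one) X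
  | braid (X Y : Obj A) : Hom (.tens X Y) (.tens Y X)
  | ev (X : Obj A) : Hom (.tens X (.neg X)) .one
  | ofHom {X Y : A} (f : X ⟶ Y) : Hom (.of X) (.of Y)
  | mu (X Y : A) : Hom (.tens (.of X) (.of Y)) (.of (X ⊗ Y))
  | eps : Hom .one (.of (𝟙_ A))

/-- the relations -/
inductive Rel : ∀ {X Y : Obj A}, Hom X Y → Hom X Y → Prop
  | refl {X Y} (f : Hom X Y) : Rel f f
  | symm {X Y} {f g : Hom X Y} : Rel f g → Rel g f
  | trans {X Y} {f g h : Hom X Y} : Rel f g → Rel g h → Rel f h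
  | comp {X Y Z} {f f' : Hom X Y} {g g' : Hom Y Z} : Rel f f' → Rel g g' → Rel (f.comp g) (f'.comp g')
  | inv {X Y} {f f' : Hom X Y} : Rel f f' → Rel f.inv f'.inv
  | tens {X₁ X₂ Y₁ Y₂} {f f' : Hom X₁ Y₁} {g g' : Hom X₂ Y₂} :
      Rel f f' → Rel g g' → Rel (f.tens g) (f'.tens g')
  | id_comp {X Y} (f : Hom X Y) : Rel ((Hom.id X).comp f) f
  | comp_id {X Y} (f : Hom X Y) : Rel (f.comp (Hom.id Y)) f
  | comp_assoc {X Y Z W} (f : Hom X Y) (g : Hom Y Z) (h : Hom Z W) : Rel ((f.comp g).comp h) (f.comp (g.comp h))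
  | comp_inv {X Y} (f : Hom X Y) : Rel (f.comp f.inv) (Hom.id X)
  | inv_comp {X Y} (f : Hom X Y) : Rel (f.inv.comp f) (Hom.id Y)
  | tens_id (X Y) : Rel ((Hom.id X).tens (Hom.id Y)) (Hom.id (.tens X Y))
  | tens_comp {X₁ Y₁ Z₁ X₂ Y₂ Z₂} (f₁ : Hom X₁ Y₁) (f₂ : Hom X₂ Y₂) (g₁ : Hom Y₁ Z₁) (g₂ : Hom Y₂ Z₂) :
      Rel ((f₁.tens f₂).comp (g₁.tens g₂)) ((f₁.comp g₁).tens (f₂.comp g₂))
  | assoc_nat {X₁ X₂ X₃ Y₁ Y₂ Y₃} (f₁ : Hom X₁ Y₁) (f₂ : Hom X₂ Y₂) (f₃ : Hom X₃ Y₃) :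
      Rel (((f₁.tens f₂).tens f₃).comp (Hom.assoc Y₁ Y₂ Y₃))
        ((Hom.assoc X₁ X₂ X₃).comp (f₁.tens (f₂.tens f₃)))
  | lunit_nat {X Y} (f : Hom X Y) : Rel (((Hom.id .one).tens f).comp (Hom.lunit Y)) ((Hom.lunit X).comp f)
  | runit_nat {X Y} (f : Hom X Y) : Rel ((f.tens (Hom.id .one)).comp (Hom.runit Y)) ((Hom.runit X).comp f)
  | pentagon (W X Y Z) :
      Rel (((Hom.assoc W X Y).tens (Hom.id Z)).comp
        ((Hom.assoc W (.tens X Y) Z).comp ((Hom.id W).tens (Hom.assoc X Y Z))))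
        ((Hom.assoc (.tens W X) Y Z).comp (Hom.assoc W X (.tens Y Z)))
  | triangle (X Y) :
      Rel ((Hom.assoc X .one Y).comp ((Hom.id X).tens (Hom.lunit Y))) ((Hom.runit X).tens (Hom.id Y))
  | braid_nat {X₁ X₂ Y₁ Y₂} (f : Hom X₁ Y₁) (g : Hom X₂ Y₂) :
      Rel ((f.tens g).comp (Hom.braid Y₁ Y₂)) ((Hom.braid X₁ X₂).comp (g.tens f))
  | hexagon_forward (X Y Z) :
      Rel ((Hom.assoc X Y Z).comp ((Hom.braid X (.tens Y Z)).comp (Hom.assoc Y Z X)))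
        (((Hom.braid X Y).tens (Hom.id Z)).comp ((Hom.assoc Y X Z).comp ((Hom.id Y).tens (Hom.braid X Z))))
  | hexagon_reverse (X Y Z) :
      Rel ((Hom.assoc X Y Z).inv.comp ((Hom.braid (.tens X Y) Z).comp (Hom.assoc Z X Y).inv))
        (((Hom.id X).tens (Hom.braid Y Z)).comp ((Hom.assoc X Z Y).inv.comp ((Hom.braid X Z).tens (Hom.id Y))))
  | symmetry (X Y) : Rel ((Hom.braid X Y).comp (Hom.braid Y X)) (Hom.id _)
  | of_id (X : A) : Rel (Hom.ofHom (𝟙 X)) (Hom.id _)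
  | of_comp {X Y Z : A} (f : X ⟶ Y) (g : Y ⟶ Z) : Rel (Hom.ofHom (f ≫ g)) ((Hom.ofHom f).comp (Hom.ofHom g))
  | mu_nat_left {X Y : A} (f : X ⟶ Y) (X' : A) :
      Rel (((Hom.ofHom f).tens (Hom.id _)).comp (Hom.mu Y X')) ((Hom.mu X X').comp (Hom.ofHom (f ▷ X')))
  | mu_nat_right {X Y : A} (X' : A) (f : X ⟶ Y) :
      Rel (((Hom.id _).tens (Hom.ofHom f)).comp (Hom.mu X' Y)) ((Hom.mu X' X).comp (Hom.ofHom (X' ◁ f)))
  | mu_assoc (X Y Z : A) :
      Rel (((Hom.mu X Y).tens (Hom.id (.of Z))).comp ((Hom.mu (X ⊗ Y) Z).comp (Hom.ofHom (α_ X Y Z).hom)))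
        ((Hom.assoc (.of X) (.of Y) (.of Z)).comp (((Hom.id (.of X)).tens (Hom.mu Y Z)).comp (Hom.mu X (Y ⊗ Z))))
  | mu_left (X : A) :
      Rel (Hom.lunit (.of X)) ((Hom.eps.tens (Hom.id _)).comp ((Hom.mu (𝟙_ A) X).comp (Hom.ofHom (λ_ X).hom)))
  | mu_right (X : A) :
      Rel (Hom.runit (.of X)) (((Hom.id _).tens Hom.eps).comp ((Hom.mu X (𝟙_ A)).comp (Hom.ofHom (ρ_ X).hom)))
  | mu_braid (X Y : A) :
      Rel ((Hom.mu X Y).comp (Hom.ofHom (β_ X Y).hom)) ((Hom.braid (.of X) (.of Y)).comp (Hom.mu Y X))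

instance setoidHom (X Y : Obj A) : Setoid (Hom X Y) := ⟨Rel, ⟨Rel.refl, Rel.symm, Rel.trans⟩⟩

instance : Category.{max u v} (Obj A) where
  Hom X Y := Quotient (setoidHom X Y)
  id X := Quotient.mk _ (Hom.id X)
  comp := Quotient.map₂ Hom.comp fun _ _ hf _ _ hg => Rel.comp hf hg
  id_comp := by rintro X Y ⟨f⟩; exact Quotient.sound (Rel.id_comp f)
  comp_id := by rintro X Y ⟨f⟩; exact Quotient.sound (Rel.comp_id f)
  assoc := by rintro W X Y Z ⟨f⟩ ⟨g⟩ ⟨h⟩; exact Quotient.sound (Rel.comp_assoc f g h)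

/-- class of a formal morphism -/
abbrev cls {X Y : Obj A} (f : Hom X Y) : X ⟶ Y := Quotient.mk _ f

/-- class of a formal morphism as an isomorphism -/
def clsIso {X Y : Obj A} (f : Hom X Y) : X ≅ Y where
  hom := cls f
  inv := cls f.inv
  hom_inv_id := Quotient.sound (Rel.comp_inv f)
  inv_hom_id := Quotient.sound (Rel.inv_comp f)

instance : IsGroupoid (Obj A) where
  all_isIso := fun {X Y} f => by
    obtain ⟨f⟩ := f
    exact (clsIso f).isIso_hom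

instance : MonoidalCategoryStruct (Obj A) where
  tensorObj := Obj.tens
  tensorHom := Quotient.map₂ Hom.tens fun _ _ hf _ _ hg => Rel.tens hf hg
  whiskerLeft X _ _ f := Quotient.map₂ Hom.tens (fun _ _ hf _ _ hg => Rel.tens hf hg) (cls (Hom.id X)) f
  whiskerRight f Y := Quotient.map₂ Hom.tens (fun _ _ hf _ _ hg => Rel.tens hf hg) f (cls (Hom.id Y))
  tensorUnit := Obj.one
  associator X Y Z := clsIso (Hom.assoc X Y Z)
  leftUnitor X := clsIso (Hom.lunit X)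
  rightUnitor X := clsIso (Hom.runit X)

instance : MonoidalCategory (Obj A) :=
  MonoidalCategory.ofTensorHom
    (id_tensorHom_id := fun X Y => Quotient.sound (Rel.tens_id X Y))
    (id_tensorHom := fun _ _ _ _ => rfl)
    (tensorHom_id := fun _ _ => rfl)
    (tensorHom_comp_tensorHom := by
      rintro _ _ _ _ _ _ ⟨f₁⟩ ⟨f₂⟩ ⟨g₁⟩ ⟨g₂⟩; exact Quotient.sound (Rel.tens_comp f₁ f₂ g₁ g₂))
    (associator_naturality := by
      rintro _ _ _ _ _ _ ⟨f₁⟩ ⟨f₂⟩ ⟨f₃⟩; exact Quotient.sound (Rel.assoc_nat f₁ f₂ f₃))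
    (leftUnitor_naturality := by rintro _ _ ⟨f⟩; exact Quotient.sound (Rel.lunit_nat f))
    (rightUnitor_naturality := by rintro _ _ ⟨f⟩; exact Quotient.sound (Rel.runit_nat f))
    (pentagon := fun W X Y Z => Quotient.sound (Rel.pentagon W X Y Z))
    (triangle := fun X Y => Quotient.sound (Rel.triangle X Y))

instance : SymmetricCategory (Obj A) where
  braiding X Y := clsIso (Hom.braid X Y)
  braiding_naturality_right X _ _ f := by
    obtain ⟨f⟩ := f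
    exact Quotient.sound (Rel.braid_nat (Hom.id X) f)
  braiding_naturality_left f Z := by
    obtain ⟨f⟩ := f
    exact Quotient.sound (Rel.braid_nat f (Hom.id Z))
  hexagon_forward X Y Z := Quotient.sound (Rel.hexagon_forward X Y Z)
  hexagon_reverse X Y Z := Quotient.sound (Rel.hexagon_reverse X Y Z)
  symmetry X Y := Quotient.sound (Rel.symmetry X Y)

variable (A) in
/-- the canonical functor -/
def ι : A ⥤ Obj A where
  obj := Obj.of
  map f := cls (Hom.ofHom f)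
  map_id X := Quotient.sound (Rel.of_id X)
  map_comp f g := Quotient.sound (Rel.of_comp f g)

instance : (ι A).LaxBraided where
  ε := cls Hom.eps
  μ X Y := cls (Hom.mu X Y)
  μ_natural_left f X' := Quotient.sound (Rel.mu_nat_left f X')
  μ_natural_right X' f := Quotient.sound (Rel.mu_nat_right X' f)
  associativity X Y Z := Quotient.sound (Rel.mu_assoc X Y Z)
  left_unitality X := Quotient.sound (Rel.mu_left X)
  right_unitality X := Quotient.sound (Rel.mu_right X)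
  braided X Y := Quotient.sound (Rel.mu_braid X Y)

lemma obj_isEquivalence (X : Obj A) : (tensorLeft X).IsEquivalence ∧ (tensorRight X).IsEquivalence :=
  tensor_isEquivalence X (Obj.neg X) (clsIso (Hom.ev X))

section lift

variable {P : Type u'} [Category.{v'} P] [MonoidalCategory P] [SymmetricCategory P] [IsGroupoid P]
  (hP : ∀ X : P, (tensorLeft X).IsEquivalence ∧ (tensorRight X).IsEquivalence)
  (Φ : A ⥤ P) [Φ.LaxBraided]

include hP in
lemma exists_inverse (x : P) : ∃ y : P, Nonempty (x ⊗ y ≅ 𝟙_ P) := by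
  have := (hP x).1
  exact ⟨(tensorLeft x).objPreimage (𝟙_ P), ⟨(tensorLeft x).objObjPreimageIso (𝟙_ P)⟩⟩

/-- a chosen inverse -/
noncomputable def invObj (x : P) : P := (exists_inverse hP x).choose

/-- the chosen evaluation -/
noncomputable def evIso (x : P) : x ⊗ invObj hP x ≅ 𝟙_ P := (exists_inverse hP x).choose_spec.some

/-- extension on objects -/
noncomputable def extObj : Obj A → P
  | .of X => Φ.obj X
  | .one => 𝟙_ P
  | .tens X Y => extObj X ⊗ extObj Y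
  | .neg X => invObj hP (extObj X)

/-- extension on formal morphisms -/
noncomputable def extHom : ∀ {X Y : Obj A}, Hom X Y → (extObj hP Φ X ⟶ extObj hP Φ Y)
  | _, _, .id _ => 𝟙 _
  | _, _, .comp f g => extHom f ≫ extHom g
  | _, _, .inv f => CategoryTheory.inv (extHom f)
  | _, _, .tens f g => extHom f ⊗ₘ extHom g
  | _, _, .assoc _ _ _ => (α_ _ _ _).hom
  | _, _, .lunit _ => (λ_ _).hom
  | _, _, .runit _ => (ρ_ _).hom
  | _, _, .braid _ _ => (β_ _ _).hom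
  | _, _, .ev X => (evIso hP (extObj hP Φ X)).hom
  | _, _, .ofHom f => Φ.map f
  | _, _, .mu X Y => Functor.LaxMonoidal.μ Φ X Y
  | _, _, .eps => Functor.LaxMonoidal.ε Φ

lemma extHom_rel {X Y : Obj A} {f g : Hom X Y} (h : Rel f g) : extHom hP Φ f = extHom hP Φ g := by
  induction h with
  | refl => rfl
  | symm _ ih => exact ih.symm
  | trans _ _ ih₁ ih₂ => exact ih₁.trans ih₂
  | comp _ _ ih₁ ih₂ => simp only [extHom]; rw [ih₁, ih₂]
  | inv _ ih => simp only [extHom]; simp only [ih]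
  | tens _ _ ih₁ ih₂ => simp only [extHom]; rw [ih₁, ih₂]
  | id_comp => simp [extHom]
  | comp_id => simp [extHom]
  | comp_assoc => simp [extHom]
  | comp_inv => simp [extHom]
  | inv_comp => simp [extHom]
  | tens_id => simp [extHom, extObj]
  | tens_comp => simp only [extHom, extObj]; exact tensorHom_comp_tensorHom _ _ _ _
  | assoc_nat => simp only [extHom, extObj]; exact associator_naturality _ _ _
  | lunit_nat => simp only [extHom, extObj, id_tensorHom]; exact leftUnitor_naturality _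
  | runit_nat => simp only [extHom, extObj, tensorHom_id]; exact rightUnitor_naturality _
  | pentagon => simp only [extHom, extObj, id_tensorHom, tensorHom_id]; exact MonoidalCategory.pentagon _ _ _ _
  | triangle => simp only [extHom, extObj, id_tensorHom, tensorHom_id]; exact MonoidalCategory.triangle _ _
  | braid_nat => simp only [extHom, extObj]; exact BraidedCategory.braiding_naturality _ _
  | hexagon_forward =>
    simp only [extHom, extObj, id_tensorHom, tensorHom_id]; exact BraidedCategory.hexagon_forward _ _ _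
  | hexagon_reverse =>
    simp only [extHom, extObj, id_tensorHom, tensorHom_id, IsIso.Iso.inv_hom]
    exact BraidedCategory.hexagon_reverse _ _ _
  | symmetry => simp only [extHom, extObj]; exact SymmetricCategory.symmetry _ _
  | of_id => simp [extHom, extObj]
  | of_comp => simp [extHom, extObj]
  | mu_nat_left => simp only [extHom, extObj, tensorHom_id]; exact Functor.LaxMonoidal.μ_natural_left Φ _ _
  | mu_nat_right => simp only [extHom, extObj, id_tensorHom]; exact Functor.LaxMonoidal.μ_natural_right Φ _ _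
  | mu_assoc =>
    simp only [extHom, extObj, id_tensorHom, tensorHom_id]; exact Functor.LaxMonoidal.associativity Φ _ _ _
  | mu_left => simp only [extHom, extObj, tensorHom_id]; exact Functor.LaxMonoidal.left_unitality Φ _
  | mu_right => simp only [extHom, extObj, id_tensorHom]; exact Functor.LaxMonoidal.right_unitality Φ _
  | mu_braid => simp only [extHom, extObj]; exact Functor.LaxBraided.braided _ _

/-- the extension -/
noncomputable def ext' : Obj A ⥤ P where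
  obj := extObj hP Φ
  map := Quotient.lift (extHom hP Φ) fun _ _ h => extHom_rel hP Φ h
  map_id _ := rfl
  map_comp := by rintro _ _ _ ⟨f⟩ ⟨g⟩; rfl

noncomputable instance : (ext' hP Φ).LaxBraided where
  ε := 𝟙 _
  μ _ _ := 𝟙 _
  μ_natural_left f X' := by
    obtain ⟨f⟩ := f
    change extHom hP Φ f ▷ extObj hP Φ X' ≫ 𝟙 _ = 𝟙 _ ≫ extHom hP Φ (f.tens (Hom.id X'))
    simp only [extHom, tensorHom_id]
    exact (Category.comp_id _).trans (Category.id_comp _).symm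
  μ_natural_right X' f := by
    obtain ⟨f⟩ := f
    change extObj hP Φ X' ◁ extHom hP Φ f ≫ 𝟙 _ = 𝟙 _ ≫ extHom hP Φ ((Hom.id X').tens f)
    simp only [extHom, id_tensorHom]
    exact (Category.comp_id _).trans (Category.id_comp _).symm
  associativity X Y Z := by
    change (𝟙 (extObj hP Φ X ⊗ extObj hP Φ Y)) ▷ extObj hP Φ Z ≫ 𝟙 _ ≫ extHom hP Φ (Hom.assoc X Y Z) =
      (α_ _ _ _).hom ≫ extObj hP Φ X ◁ (𝟙 (extObj hP Φ Y ⊗ extObj hP Φ Z)) ≫ 𝟙 _
    simp [extHom, extObj]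
  left_unitality X := by
    change (λ_ (extObj hP Φ X)).hom = (𝟙 (𝟙_ P)) ▷ extObj hP Φ X ≫ 𝟙 _ ≫ extHom hP Φ (Hom.lunit X)
    simp [extHom, extObj]
  right_unitality X := by
    change (ρ_ (extObj hP Φ X)).hom = extObj hP Φ X ◁ (𝟙 (𝟙_ P)) ≫ 𝟙 _ ≫ extHom hP Φ (Hom.runit X)
    simp [extHom, extObj]
  braided X Y := by
    change 𝟙 _ ≫ extHom hP Φ (Hom.braid X Y) = (β_ (extObj hP Φ X) (extObj hP Φ Y)).hom ≫ 𝟙 _
    simp only [extHom]
    exact (Category.id_comp _).trans (Category.comp_id _).symm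

include hP in
theorem exists_lift : ∃ (Ψ : Obj A ⥤ P) (_ : Ψ.LaxBraided) (η : ι A ⋙ Ψ ≅ Φ), NatTrans.IsMonoidal η.hom := by
  refine ⟨ext' hP Φ, inferInstance, NatIso.ofComponents (fun X => Iso.refl _) (fun f => ?_), ?_⟩
  · exact (Category.comp_id _).trans (Category.id_comp _).symm
  · constructor
    · change (𝟙 (𝟙_ P) ≫ extHom hP Φ Hom.eps) ≫ 𝟙 _ = Functor.LaxMonoidal.ε Φ
      simp only [extHom]
      exact (Category.comp_id _).trans (Category.id_comp _)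
    · intro X Y
      change (𝟙 _ ≫ extHom hP Φ (Hom.mu X Y)) ≫ 𝟙 (Φ.obj (X ⊗ Y)) =
        (𝟙 (Φ.obj X) ⊗ₘ 𝟙 (Φ.obj Y)) ≫ Functor.LaxMonoidal.μ Φ X Y
      simp only [extHom, id_tensorHom_id, Category.id_comp]
      exact Category.comp_id _

end lift

section unique

open Functor.LaxMonoidal

variable {P : Type u'} [Category.{v'} P] [MonoidalCategory P] [SymmetricCategory P] [IsGroupoid P]
  (hP : ∀ X : P, (tensorLeft X).IsEquivalence ∧ (tensorRight X).IsEquivalence)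
  (Ψ Ψ' : Obj A ⥤ P) [Ψ.LaxBraided] [Ψ'.LaxBraided]

include hP in
lemma exists_cancel {x x' y y' : P} (a : x ⟶ x') (g : x ⊗ y ⟶ x' ⊗ y') :
    ∃! t : y ⟶ y', (a ⊗ₘ t) = g := by
  have := (hP x').1
  obtain ⟨t, ht⟩ := (tensorLeft x').map_surjective (CategoryTheory.inv (a ▷ y) ≫ g)
  refine ⟨t, ?_, fun t' ht' => (tensorLeft x').map_injective ?_⟩
  · change x' ◁ t = _ at ht
    rw [tensorHom_def, ht, IsIso.hom_inv_id_assoc]
  · rw [ht, IsIso.eq_inv_comp]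
    change a ▷ y ≫ x' ◁ t' = g
    rw [← tensorHom_def, ht']

variable (τ : ι A ⋙ Ψ ⟶ ι A ⋙ Ψ')

/-- extension of a transformation -/
noncomputable def extApp : ∀ X : Obj A, Ψ.obj X ⟶ Ψ'.obj X
  | .of X => τ.app X
  | .one => CategoryTheory.inv (ε Ψ) ≫ ε Ψ'
  | .tens X Y => CategoryTheory.inv (μ Ψ X Y) ≫ (extApp X ⊗ₘ extApp Y) ≫ μ Ψ' X Y
  | .neg X => (exists_cancel hP (extApp X)
      (μ Ψ X (.neg X) ≫ Ψ.map (cls (Hom.ev X)) ≫ (CategoryTheory.inv (ε Ψ) ≫ ε Ψ') ≫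
        CategoryTheory.inv (Ψ'.map (cls (Hom.ev X))) ≫ CategoryTheory.inv (μ Ψ' X (.neg X)))).choose

lemma extApp_tens (X Y : Obj A) :
    μ Ψ X Y ≫ extApp hP Ψ Ψ' τ (X.tens Y) = (extApp hP Ψ Ψ' τ X ⊗ₘ extApp hP Ψ Ψ' τ Y) ≫ μ Ψ' X Y := by
  simp only [extApp]
  exact IsIso.hom_inv_id_assoc (μ Ψ X Y) _

lemma extApp_one : ε Ψ ≫ extApp hP Ψ Ψ' τ Obj.one = ε Ψ' := by
  simp only [extApp]
  exact IsIso.hom_inv_id_assoc (ε Ψ) _

lemma extApp_ev (X : Obj A) :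
    Ψ.map (cls (Hom.ev X)) ≫ extApp hP Ψ Ψ' τ Obj.one =
      extApp hP Ψ Ψ' τ (X.tens X.neg) ≫ Ψ'.map (cls (Hom.ev X)) := by
  have h := (exists_cancel hP (extApp hP Ψ Ψ' τ X)
      (μ Ψ X (.neg X) ≫ Ψ.map (cls (Hom.ev X)) ≫ (CategoryTheory.inv (ε Ψ) ≫ ε Ψ') ≫
        CategoryTheory.inv (Ψ'.map (cls (Hom.ev X))) ≫ CategoryTheory.inv (μ Ψ' X (.neg X)))).choose_spec.1
  rw [← cancel_epi (μ Ψ X X.neg)]
  refine Eq.trans ?_ (congrArg (· ≫ Ψ'.map (cls (Hom.ev X))) (extApp_tens hP Ψ Ψ' τ X X.neg)).symm |>.trans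
    (Category.assoc _ _ _)
  change _ = ((extApp hP Ψ Ψ' τ X ⊗ₘ extApp hP Ψ Ψ' τ X.neg) ≫ μ Ψ' X X.neg) ≫ _
  simp only [extApp] at h ⊢
  rw [h]
  simp only [Category.assoc, IsIso.inv_hom_id_assoc]
  erw [IsIso.inv_hom_id, Category.comp_id]
  rfl

variable [hτ : NatTrans.IsMonoidal τ]

lemma extApp_natural {X Y : Obj A} (f : Hom X Y) :
    Ψ.map (cls f) ≫ extApp hP Ψ Ψ' τ Y = extApp hP Ψ Ψ' τ X ≫ Ψ'.map (cls f) := by
  induction f with
  | id X =>
    change Ψ.map (𝟙 X) ≫ _ = _ ≫ Ψ'.map (𝟙 X)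
    rw [Ψ.map_id, Ψ'.map_id, Category.id_comp, Category.comp_id]
  | comp f g ihf ihg =>
    change Ψ.map (cls f ≫ cls g) ≫ _ = _ ≫ Ψ'.map (cls f ≫ cls g)
    rw [Ψ.map_comp, Ψ'.map_comp, Category.assoc, ihg, reassoc_of% ihf]
  | @inv X Y f ih =>
    change Ψ.map (clsIso f).inv ≫ _ = _ ≫ Ψ'.map (clsIso f).inv
    rw [← cancel_epi (Ψ.map (clsIso f).hom), ← Ψ.map_comp_assoc, Iso.hom_inv_id, Ψ.map_id, Category.id_comp]
    rw [← cancel_mono (Ψ'.map (clsIso f).hom), Category.assoc, Category.assoc, ← Ψ'.map_comp, Iso.inv_hom_id,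
      Ψ'.map_id, Category.comp_id]
    exact ih.symm
  | @tens X₁ X₂ Y₁ Y₂ f g ihf ihg =>
    change Ψ.map (cls f ⊗ₘ cls g) ≫ _ = _ ≫ Ψ'.map (cls f ⊗ₘ cls g)
    rw [← cancel_epi (μ Ψ X₁ X₂)]
    erw [← Functor.LaxMonoidal.μ_natural_assoc, extApp_tens, reassoc_of% (extApp_tens hP Ψ Ψ' τ X₁ X₂)]
    rw [← Functor.LaxMonoidal.μ_natural, tensorHom_comp_tensorHom_assoc, tensorHom_comp_tensorHom_assoc, ihf, ihg]
  | assoc X Y Z =>
    change Ψ.map (α_ X Y Z).hom ≫ extApp hP Ψ Ψ' τ (X ⊗ (Y ⊗ Z)) =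
      extApp hP Ψ Ψ' τ ((X ⊗ Y) ⊗ Z) ≫ Ψ'.map (α_ X Y Z).hom
    have t : ∀ X Y : Obj A, μ Ψ X Y ≫ extApp hP Ψ Ψ' τ (X ⊗ Y) =
        (extApp hP Ψ Ψ' τ X ⊗ₘ extApp hP Ψ Ψ' τ Y) ≫ μ Ψ' X Y := extApp_tens hP Ψ Ψ' τ
    rw [← cancel_epi (μ Ψ X Y ▷ Ψ.obj Z ≫ μ Ψ (X ⊗ Y) Z), Category.assoc, Category.assoc,
      Functor.LaxMonoidal.associativity_assoc, t, reassoc_of% (t (X ⊗ Y) Z), ← id_tensorHom, ← tensorHom_id,
      tensorHom_comp_tensorHom_assoc, tensorHom_comp_tensorHom_assoc, Category.id_comp, Category.id_comp,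
      t, t]
    conv_rhs => rw [show extApp hP Ψ Ψ' τ Z = extApp hP Ψ Ψ' τ Z ≫ 𝟙 _ from (Category.comp_id _).symm,
      ← tensorHom_comp_tensorHom_assoc, tensorHom_id, Functor.LaxMonoidal.associativity]
    conv_lhs => rw [show extApp hP Ψ Ψ' τ X = extApp hP Ψ Ψ' τ X ≫ 𝟙 _ from (Category.comp_id _).symm,
      ← tensorHom_comp_tensorHom_assoc, id_tensorHom]
    rw [associator_naturality_assoc]
  | lunit X =>
    change Ψ.map (λ_ X).hom ≫ extApp hP Ψ Ψ' τ X = extApp hP Ψ Ψ' τ (𝟙_ (Obj A) ⊗ X) ≫ Ψ'.map (λ_ X).hom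
    have t : μ Ψ (𝟙_ (Obj A)) X ≫ extApp hP Ψ Ψ' τ (𝟙_ (Obj A) ⊗ X) =
        (extApp hP Ψ Ψ' τ (𝟙_ (Obj A)) ⊗ₘ extApp hP Ψ Ψ' τ X) ≫ μ Ψ' _ X := extApp_tens hP Ψ Ψ' τ _ X
    have t1 : ε Ψ ≫ extApp hP Ψ Ψ' τ (𝟙_ (Obj A)) = ε Ψ' := extApp_one hP Ψ Ψ' τ
    rw [← cancel_epi (ε Ψ ▷ Ψ.obj X ≫ μ Ψ (𝟙_ (Obj A)) X), Category.assoc, Category.assoc, reassoc_of% t,
      ← reassoc_of% (Functor.LaxMonoidal.left_unitality Ψ X), ← tensorHom_id, tensorHom_comp_tensorHom_assoc, t1,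
      Category.id_comp]
    conv_rhs => rw [show ε Ψ' = 𝟙 _ ≫ ε Ψ' from (Category.id_comp _).symm,
      show extApp hP Ψ Ψ' τ X = extApp hP Ψ Ψ' τ X ≫ 𝟙 _ from (Category.comp_id _).symm,
      ← tensorHom_comp_tensorHom_assoc, tensorHom_id, ← Functor.LaxMonoidal.left_unitality, id_tensorHom]
    exact (leftUnitor_naturality _).symm
  | runit X =>
    change Ψ.map (ρ_ X).hom ≫ extApp hP Ψ Ψ' τ X = extApp hP Ψ Ψ' τ (X ⊗ 𝟙_ (Obj A)) ≫ Ψ'.map (ρ_ X).hom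
    have t : μ Ψ X (𝟙_ (Obj A)) ≫ extApp hP Ψ Ψ' τ (X ⊗ 𝟙_ (Obj A)) =
        (extApp hP Ψ Ψ' τ X ⊗ₘ extApp hP Ψ Ψ' τ (𝟙_ (Obj A))) ≫ μ Ψ' X _ := extApp_tens hP Ψ Ψ' τ X _
    have t1 : ε Ψ ≫ extApp hP Ψ Ψ' τ (𝟙_ (Obj A)) = ε Ψ' := extApp_one hP Ψ Ψ' τ
    rw [← cancel_epi (Ψ.obj X ◁ ε Ψ ≫ μ Ψ X (𝟙_ (Obj A))), Category.assoc, Category.assoc, reassoc_of% t,
      ← reassoc_of% (Functor.LaxMonoidal.right_unitality Ψ X), ← id_tensorHom, tensorHom_comp_tensorHom_assoc, t1,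
      Category.id_comp]
    conv_rhs => rw [show ε Ψ' = 𝟙 _ ≫ ε Ψ' from (Category.id_comp _).symm,
      show extApp hP Ψ Ψ' τ X = extApp hP Ψ Ψ' τ X ≫ 𝟙 _ from (Category.comp_id _).symm,
      ← tensorHom_comp_tensorHom_assoc, id_tensorHom, ← Functor.LaxMonoidal.right_unitality, tensorHom_id]
    exact (rightUnitor_naturality _).symm
  | braid X Y =>
    change Ψ.map (β_ X Y).hom ≫ extApp hP Ψ Ψ' τ (Y ⊗ X) = extApp hP Ψ Ψ' τ (X ⊗ Y) ≫ Ψ'.map (β_ X Y).hom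
    have t : ∀ X Y : Obj A, μ Ψ X Y ≫ extApp hP Ψ Ψ' τ (X ⊗ Y) =
        (extApp hP Ψ Ψ' τ X ⊗ₘ extApp hP Ψ Ψ' τ Y) ≫ μ Ψ' X Y := extApp_tens hP Ψ Ψ' τ
    rw [← cancel_epi (μ Ψ X Y), reassoc_of% (t X Y), Functor.LaxBraided.braided, Functor.LaxBraided.braided_assoc, t,
      BraidedCategory.braiding_naturality_assoc]
  | ev X => exact extApp_ev hP Ψ Ψ' τ X
  | ofHom f => simp only [extApp]; exact τ.naturality f
  | mu X Y =>
    have h := NatTrans.IsMonoidal.tensor (τ := τ) X Y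
    change (μ Ψ (Obj.of X) (Obj.of Y) ≫ Ψ.map (cls (Hom.mu X Y))) ≫ τ.app (X ⊗ Y) =
      (τ.app X ⊗ₘ τ.app Y) ≫ μ Ψ' (Obj.of X) (Obj.of Y) ≫ Ψ'.map (cls (Hom.mu X Y)) at h
    rw [← cancel_epi (μ Ψ (Obj.of X) (Obj.of Y))]
    erw [reassoc_of% (extApp_tens hP Ψ Ψ' τ (Obj.of X) (Obj.of Y))]
    simp only [extApp]
    exact (Category.assoc _ _ _).symm.trans h
  | eps =>
    have h := NatTrans.IsMonoidal.unit (τ := τ)
    change (ε Ψ ≫ Ψ.map (cls Hom.eps)) ≫ τ.app (𝟙_ A) = ε Ψ' ≫ Ψ'.map (cls Hom.eps) at h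
    rw [← cancel_epi (ε Ψ)]
    erw [reassoc_of% (extApp_one hP Ψ Ψ' τ)]
    simp only [extApp]
    exact (Category.assoc _ _ _).symm.trans h

include hP hτ in
theorem existsUnique_transf : ∃! θ : Ψ ⟶ Ψ', NatTrans.IsMonoidal θ ∧ Functor.whiskerLeft (ι A) θ = τ := by
  refine ⟨⟨extApp hP Ψ Ψ' τ, fun X Y f => ?_⟩, ⟨⟨extApp_one hP Ψ Ψ' τ, fun X Y => extApp_tens hP Ψ Ψ' τ X Y⟩, ?_⟩, ?_⟩
  · obtain ⟨f⟩ := f
    exact extApp_natural hP Ψ Ψ' τ f
  · ext X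
    simp only [Functor.whiskerLeft_app, ι, extApp]
  · rintro θ ⟨hθ, hwhisk⟩
    ext X
    change θ.app X = extApp hP Ψ Ψ' τ X
    induction X with
    | of X => simp only [extApp, ← hwhisk]; rfl
    | one => rw [← cancel_epi (ε Ψ)]; exact hθ.unit.trans (extApp_one hP Ψ Ψ' τ).symm
    | tens X Y ihX ihY =>
      rw [← cancel_epi (μ Ψ X Y)]
      refine (hθ.tensor X Y).trans ?_
      rw [ihX, ihY]
      exact (extApp_tens hP Ψ Ψ' τ X Y).symm
    | neg X ih =>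
      simp only [extApp]
      refine (exists_cancel hP _ _).choose_spec.2 _ ?_
      rw [← ih]
      have h1 : θ.app Obj.one = CategoryTheory.inv (ε Ψ) ≫ ε Ψ' := (IsIso.eq_inv_comp _).2 hθ.unit
      have h2 := θ.naturality (cls (Hom.ev X))
      rw [h1] at h2
      refine Eq.trans ?_ (congrArg (μ Ψ X X.neg ≫ ·)
        ((congrArg (· ≫ CategoryTheory.inv (Ψ'.map (cls (Hom.ev X))) ≫ CategoryTheory.inv (μ Ψ' X X.neg)) h2.symm).trans
          (Category.assoc _ _ _)))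
      simp only [Category.assoc, IsIso.hom_inv_id_assoc]
      erw [reassoc_of% (hθ.tensor X X.neg), IsIso.hom_inv_id, Category.comp_id]

end unique

end Groth.Agent.PicardLib
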